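/-
The tests for the 3-part of the multiplier of Co1.
-/
import Cfsg.Agent.Co1Mult.Base
import Cfsg.Agent.Co0Model.ChainInj
import Cfsg.Agent.CentralCert.Fast
import Cfsg.Agent.Co1Mult.DataThree

set_option autoImplicit false
set_option maxRecDepth 100000

namespace CfsgLib.Co1Mult.Three

open CfsgLib.CentralCert CfsgLib.Co0Model CfsgLib.OutConway

theorem codes_ok : pick oneCode (slpN oneCode mmul prog base 7) sel = codes := by decide +kernel
theorem rels_ok : upperData.relsOK oneCode mmul codes = true := by decide +kernel
theorem stab_eq : upperData.sTab oneCode mmul codes = pgCodes := by decide +kernel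
theorem shape_ok : pcShape upperData.rels 3 upperData.W.length = true := by decide +kernel
theorem segs_ok : segsOK 3 pgCodes 0 segs upperData.W.length = true := by decide +kernel
theorem fus_ok : upperData.fusOK oneCode mmul codes = true := by decide +kernel
theorem tab_ok : tabOK upperData.rels tblR 3 = true := by decide +kernel
theorem k_ok : upperData.kOKZ 3 tblR 0 33 = true := by decide +kernel
theorem k_ok' : upperData.kOKZ 3 tblR 33 (upperData.K.length - 33) = true := by decide +kernel
theorem sec_ok : upperData.secOK = true := by decide +kernel
theorem pS_eq : packRows upperData.sec = pS := by decide +kernel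
theorem pK_eq : packRows upperData.K = pK := by decide +kernel
theorem ident_ok : upperData.identP pS pK = true := by decide +kernel

end CfsgLib.Co1Mult.Three
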