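/-
The tests for the 2-part of the multiplier of Co1.
-/
import Cfsg.Agent.Co1Mult.LeafBase
import Cfsg.Agent.Co0Model.ChainInj
import Cfsg.Agent.CentralCert.Fast
import Cfsg.Agent.CentralCert.NodupSwitch
import Cfsg.Agent.Co1Mult.DataTwo

set_option autoImplicit false
set_option maxRecDepth 100000

namespace CfsgLib.Co1Mult.Two

open CfsgLib.CentralCert CfsgLib.Co0Model CfsgLib.OutConway

theorem codes_ok : pick oneCode (slpN oneCode mmul prog leafBase 81) sel = codes := by decide +kernel
theorem rels_ok : upperData.relsOK oneCode mmul codes = true := by decide +kernel
theorem stab_eq : upperData.sTab oneCode mmul codes = pgCodes := by decide +kernel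
theorem shape_ok : pcShape upperData.rels 2 upperData.W.length = true := by decide +kernel
theorem segs_ok : segsOK 2 yCodes 0 ySegs upperData.W.length = true := by decide +kernel
theorem words_ok : wordsOK oneCode mmul pgCodes yCodes yWords upperData.W.length = true := by decide +kernel

end CfsgLib.Co1Mult.Two
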