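/-
The tests for the 2-part of the multiplier of Co1.
-/
import Cfsg.Agent.Co1Mult.LeafBase
import Cfsg.Agent.Co0Model.ChainInj
import Cfsg.Agent.CentralCert.Fast
import Cfsg.Agent.CentralCert.NodupSwitch
import Cfsg.Agent.Co1Mult.DataTwo

set_option autoImplicit false
set_option maxRecDepth 100000

namespace CfsgLib.Co1Mult.Two

open CfsgLib.CentralCert CfsgLib.Co0Model CfsgLib.OutConway

theorem fus_ok : upperData.fusOK oneCode mmul codes = true := by decide +kernel
theorem tab_ok : tabOK upperData.rels tblR 2 = true := by decide +kernel
theorem sec_ok : upperData.secOK = true := by decide +kernel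

end CfsgLib.Co1Mult.Two
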