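/-
The tests for the 2-part of the multiplier of Co1.
-/
import Cfsg.Agent.OutConway.Sim
import Cfsg.Agent.Co0Model.ChainInj
import Cfsg.Agent.CentralCert.Fast
import Cfsg.Agent.Co1Mult.DataTwo

set_option autoImplicit false
set_option maxRecDepth 100000

namespace CfsgLib.Co1Mult.Two

open CfsgLib.CentralCert CfsgLib.Co0Model CfsgLib.OutConway

theorem k_ok0 : upperData.kOKZ 2 tblR 0 200 = true := by decide +kernel
theorem k_ok1 : upperData.kOKZ 2 tblR 200 30 = true := by decide +kernel
theorem k_ok2 : upperData.kOKZ 2 tblR 230 10 = true := by decide +kernel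
theorem k_len : upperData.K.length = 240 := by decide +kernel
theorem k_derived (hT : tabOK upperData.rels tblR 2 = true) : ∀ f ∈ upperData.K, upperData.Derived f := by
  intro f hm
  obtain ⟨i, hi, rfl⟩ := List.mem_iff_getElem.mp hm
  have hl : i < 240 := k_len ▸ hi
  rcases Nat.lt_or_ge i 200 with h1 | h1
  · exact upperData.kOKZ_spec 2 hT k_ok0 (Nat.zero_le _) (by omega) hi
  rcases Nat.lt_or_ge i 230 with h2 | h2
  · exact upperData.kOKZ_spec 2 hT k_ok1 h1 (by omega) hi
  · exact upperData.kOKZ_spec 2 hT k_ok2 h2 (by omega) hi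

end CfsgLib.Co1Mult.Two
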