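/-
A perfect group with trivial multiplier is the universal cover of its central quotient.
-/
import Cfsg.Prelude.Def_KGroupFacts
import Mathlib.Tactic.Group
import Mathlib.GroupTheory.Abelianization.Defs

set_option autoImplicit false

namespace CfsgLib.Co1Mult

open scoped commutatorElement

variable {G Q Γ : Type} [Group G] [Group Q] [Group Γ]

theorem commutator_mul_central {H : Type*} [Group H] (a b : H) {z w : H} (hz : z ∈ Subgroup.center H)
    (hw : w ∈ Subgroup.center H) : ⁅a * z, b * w⁆ = ⁅a, b⁆ := by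
  have cz : ∀ x : H, z * x * z⁻¹ = x := fun x => by rw [← Subgroup.mem_center_iff.mp hz x, mul_inv_cancel_right]
  have cw : ∀ x : H, w * x * w⁻¹ = x := fun x => by rw [← Subgroup.mem_center_iff.mp hw x, mul_inv_cancel_right]
  calc ⁅a * z, b * w⁆ = a * (z * (b * w) * z⁻¹) * a⁻¹ * w⁻¹ * b⁻¹ := by rw [commutatorElement_def]; group
    _ = a * b * (w * a⁻¹ * w⁻¹) * b⁻¹ := by rw [cz]; group
    _ = ⁅a, b⁆ := by rw [cw, commutatorElement_def]

/-- The fibre product. -/
def fibre (pr : G →* Q) (σ : Γ →* Q) : Subgroup (Γ × G) :=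
  MonoidHom.eqLocus (σ.comp (MonoidHom.fst Γ G)) (pr.comp (MonoidHom.snd Γ G))

theorem exists_lift [Finite G] [Finite Γ] (hG : commutator G = ⊤)
    (htriv : ∀ (Δ : Type) [Group Δ] [Finite Δ] (τ : Δ →* G), Cfsg.IsStemExtension τ → τ.ker = ⊥)
    (pr : G →* Q) (hpr : Function.Surjective pr) (σ : Γ →* Q) (hσ : Cfsg.IsStemExtension σ) :
    ∃ φ : G →* Γ, σ.comp φ = pr ∧ σ.ker ≤ φ.range := by
  let P := fibre pr σ
  let f : P →* G := (MonoidHom.snd Γ G).comp P.subtype
  have hf : Function.Surjective f := fun g => by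
    obtain ⟨a, ha⟩ := hσ.1 (pr g)
    exact ⟨⟨(a, g), ha⟩, rfl⟩
  let D := commutator P
  let τ : D →* G := f.comp D.subtype
  have hτ : Function.Surjective τ := by
    intro g
    have hg : g ∈ (commutator P).map f := by
      rw [commutator_def, Subgroup.map_commutator, Subgroup.map_top_of_surjective f hf, ← commutator_def, hG]
      trivial
    obtain ⟨x, hx, rfl⟩ := hg
    exact ⟨⟨x, hx⟩, rfl⟩
  have hker : ∀ x : P, f x = 1 → x ∈ Subgroup.center P := by
    intro x hx
    rw [Subgroup.mem_center_iff]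
    intro y
    refine Subtype.ext (Prod.ext ?_ ?_)
    · have h1 : (x : Γ × G).1 ∈ σ.ker := by
        have h := x.2
        change σ (x : Γ × G).1 = pr (x : Γ × G).2 at h
        rw [MonoidHom.mem_ker, h, show (x : Γ × G).2 = 1 from hx, map_one]
      exact Subgroup.mem_center_iff.mp (hσ.2.1 h1) _
    · show (y : Γ × G).2 * (x : Γ × G).2 = (x : Γ × G).2 * (y : Γ × G).2
      rw [show (x : Γ × G).2 = 1 from hx, mul_one, one_mul]
  have hperf : commutator D = ⊤ := by
    refine (Subgroup.eq_top_iff' _).mpr fun d => ?_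
    let K := (commutator D).map D.subtype
    suffices hK : (d : P) ∈ K by
      obtain ⟨e, he, hed⟩ := hK
      rwa [Subtype.ext hed] at he
    have hle : (⁅(⊤ : Subgroup P), ⊤⁆ : Subgroup P) ≤ K := by
      rw [Subgroup.commutator_le]
      intro x _ y _
      obtain ⟨x', hx'⟩ := hτ (f x)
      obtain ⟨y', hy'⟩ := hτ (f y)
      have cx : (x' : P)⁻¹ * x ∈ Subgroup.center P := hker _ (by
        rw [map_mul, map_inv, show f (x' : P) = f x from hx', inv_mul_cancel])
      have cy : (y' : P)⁻¹ * y ∈ Subgroup.center P := hker _ (by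
        rw [map_mul, map_inv, show f (y' : P) = f y from hy', inv_mul_cancel])
      refine ⟨⁅x', y'⁆, ?_, ?_⟩
      · rw [SetLike.mem_coe, commutator_def]
        exact Subgroup.commutator_mem_commutator (Subgroup.mem_top _) (Subgroup.mem_top _)
      · calc D.subtype ⁅x', y'⁆ = ⁅(x' : P), (y' : P)⁆ := map_commutatorElement _ _ _
          _ = ⁅(x' : P) * ((x' : P)⁻¹ * x), (y' : P) * ((y' : P)⁻¹ * y)⁆ :=
            (commutator_mul_central _ _ cx cy).symm
          _ = ⁅x, y⁆ := by rw [mul_inv_cancel_left, mul_inv_cancel_left]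
    exact hle (commutator_def P ▸ d.2)
  have hstem : Cfsg.IsStemExtension τ := by
    refine ⟨hτ, fun d hd => ?_, by rw [hperf]; exact le_top⟩
    rw [Subgroup.mem_center_iff]
    exact fun e => Subtype.ext (Subgroup.mem_center_iff.mp (hker d hd) e)
  let e : D ≃* G := MulEquiv.ofBijective τ ⟨(MonoidHom.ker_eq_bot_iff τ).mp (htriv D τ hstem), hτ⟩
  let φ : G →* Γ := ((MonoidHom.fst Γ G).comp (P.subtype.comp D.subtype)).comp e.symm.toMonoidHom
  have hφ : σ.comp φ = pr := by
    refine MonoidHom.ext fun g => ?_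
    have h1 := (e.symm g : P).2
    change σ ((e.symm g : P) : Γ × G).1 = pr ((e.symm g : P) : Γ × G).2 at h1
    have h2 : ((e.symm g : P) : Γ × G).2 = g := e.apply_symm_apply g
    rw [h2] at h1
    exact h1
  refine ⟨φ, hφ, fun z hz => ?_⟩
  have hz' := hσ.2.2 hz
  have hle : (⁅(⊤ : Subgroup Γ), ⊤⁆ : Subgroup Γ) ≤ φ.range := by
    rw [Subgroup.commutator_le]
    intro x _ y _
    obtain ⟨a, ha⟩ := hpr (σ x)
    obtain ⟨b, hb⟩ := hpr (σ y)
    have cx : (φ a)⁻¹ * x ∈ Subgroup.center Γ := hσ.2.1 (by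
      rw [MonoidHom.mem_ker, map_mul, map_inv, ← MonoidHom.comp_apply, hφ, ha, inv_mul_cancel])
    have cy : (φ b)⁻¹ * y ∈ Subgroup.center Γ := hσ.2.1 (by
      rw [MonoidHom.mem_ker, map_mul, map_inv, ← MonoidHom.comp_apply, hφ, hb, inv_mul_cancel])
    refine ⟨⁅a, b⁆, ?_⟩
    rw [map_commutatorElement]
    conv_rhs => rw [← mul_inv_cancel_left (φ a) x, ← mul_inv_cancel_left (φ b) y]
    exact (commutator_mul_central _ _ cx cy).symm
  exact hle (commutator_def Γ ▸ hz')

end CfsgLib.Co1Mult
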