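/-
The multiplier of Co1 has order two.
-/
import Cfsg.Agent.Co1Mult.OKTwo
import Cfsg.Agent.Co1Mult.OKTwoF
import Cfsg.Agent.Co1Mult.OKTwoK
import Cfsg.Agent.Co1Mult.OKTwoI
import Cfsg.Agent.Co1Mult.OKTwoI0
import Cfsg.Agent.Co1Mult.OKTwoI1
import Cfsg.Agent.Co1Mult.OKTwoI2
import Cfsg.Agent.Co1Mult.OKThree
import Cfsg.Agent.Co1Mult.OKFive
import Cfsg.Agent.Co1Mult.OKSeven
import Cfsg.Agent.Co1Mult.Reduce
import Cfsg.Agent.CentralCert.Assemble
import Cfsg.Agent.CentralCert.StdLength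
import Cfsg.Agent.Leech.Simple
import Cfsg.Prelude.Def_Spor_Conway

set_option autoImplicit false

namespace CfsgLib.Co1Mult

open Cfsg CfsgLib CfsgLib.Leech CfsgLib.CentralCert CfsgLib.Co0Model CfsgLib.OutConway

attribute [local irreducible] shortVecs halfTable quarterTable codeFinset

theorem card_H : Nat.card (⊤ : Subgroup Co0) = 8315553613086720000 := by
  rw [Subgroup.card_top, card_Co0]

/-- The normal forms of the subgroup of even index differ. -/
theorem two_nodup {x : ℕ → (⊤ : Subgroup Co0)}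
    (hx : ∀ i, (modelSub (⊤ : Subgroup Co0)).enc (x i) = Two.codes.getD i oneCode) :
    (Two.upperData.NF.map (tab oneCode mmul (Two.upperData.sTab oneCode mmul Two.codes))).Nodup :=
  Two.upperData.nodup_switch (modelSub (⊤ : Subgroup Co0)) 2 hx rfl Two.rels_ok (by norm_num) Two.shape_ok
    Two.stab_eq Two.words_ok fun y hy u hu v hv e =>
      segs_inj 2 Two.yCodes y hy Two.ySegs 0 _ Two.segs_ok u hu v hv e

/-- The index of each subgroup annihilates the kernel. -/
theorem pow_eq_one (D : Upper) (p : ℕ) {t : DTree (⊤ : Subgroup Co0)} {tb : DTree ℕ} {tn : ℕ}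
    (hb : t.map (modelSub (⊤ : Subgroup Co0)).enc = tb) (prog : List (ℕ × ℕ)) (sel codes : List ℕ)
    (hc : pick oneCode (slpN oneCode mmul prog tb tn) sel = codes)
    (hNF : D.NF = stdWords p 0 D.W.length) (he : D.e = [])
    (h1 : D.relsOK oneCode mmul codes = true)
    (hp : 0 < p) (hsh : pcShape D.rels p D.W.length = true)
    (h2 : ∀ {x : ℕ → (⊤ : Subgroup Co0)}, (∀ i, (modelSub (⊤ : Subgroup Co0)).enc (x i) = codes.getD i oneCode) →
      (D.NF.map (tab oneCode mmul (D.sTab oneCode mmul codes))).Nodup)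
    (h3 : D.fusOK oneCode mmul codes = true) (h4 : ∀ f ∈ D.K, D.Derived f) (h5 : D.secOK = true) (h6 : D.identOK = true)
    {m : ℕ} (hm : m * D.NF.length = 8315553613086720000)
    {Γ : Type*} [Group Γ] [Finite Γ] {σ : Γ →* (⊤ : Subgroup Co0)} (hσ : Cfsg.IsStemExtension σ)
    {z : Γ} (hz : z ∈ σ.ker) : z ^ m = 1 := by
  have hx := fun i => enc_pick (modelSub (⊤ : Subgroup Co0)) hb hc i
  obtain ⟨E, -, -, hgen⟩ := D.bound_std (modelSub (⊤ : Subgroup Co0)) p hx hNF h1 hp hsh
    (h2 hx) h3 h4 h5 h6 hσ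
  simpa [he] using hgen z hz m (hm.trans card_H.symm)

theorem ker_eq_bot {Γ : Type} [Group Γ] [Finite Γ] {σ : Γ →* (⊤ : Subgroup Co0)}
    (hσ : Cfsg.IsStemExtension σ) : σ.ker = ⊥ := by
  rw [eq_bot_iff]
  intro z hz
  have a := pow_eq_one Two.upperData 2 leaf_enc Two.prog Two.sel Two.codes Two.codes_ok rfl rfl Two.rels_ok
    (by norm_num) Two.shape_ok two_nodup Two.fus_ok
    (Two.k_derived Two.tab_ok) Two.sec_ok
    (Two.upperData.identOK_of_identP Two.pS_eq Two.pK_eq
      (Two.upperData.identP_of_ranges Two.pS Two.pK Two.shapeI Two.rels_len (by norm_num) Two.ident_rows0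
        Two.ident_rows1 Two.ident_rows2)) (m := 1982582476875)
    (mul_length_NF Two.upperData (p := 2) rfl (d := 22) rfl (by norm_num)) hσ hz
  have b := pow_eq_one Three.upperData 3 gens_enc Three.prog Three.sel Three.codes Three.codes_ok rfl rfl Three.rels_ok
    (by norm_num) Three.shape_ok
    (fun hx => segs_nodup 3 _ Three.upperData hx Three.stab_eq rfl Three.segs_ok) Three.fus_ok
    (Three.upperData.derived_of_kOKZ 3 Three.tab_ok Three.k_ok Three.k_ok') Three.sec_ok
    (Three.upperData.identOK_of_identP Three.pS_eq Three.pK_eq Three.ident_ok) (m := 422473891840000)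
    (mul_length_NF Three.upperData (p := 3) rfl (d := 9) rfl (by norm_num)) hσ hz
  have c := pow_eq_one Five.upperData 5 gens_enc Five.prog Five.sel Five.codes Five.codes_ok rfl rfl Five.rels_ok
    (by norm_num) Five.shape_ok
    (fun hx => segs_nodup 5 _ Five.upperData hx Five.stab_eq rfl Five.segs_ok) Five.fus_ok
    (Five.upperData.derived_of_kOKZ 5 Five.tab_ok Five.k_ok Five.k_ok') Five.sec_ok
    (Five.upperData.identOK_of_identP Five.pS_eq Five.pK_eq Five.ident_ok) (m := 13304885780938752)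
    (mul_length_NF Five.upperData (p := 5) rfl (d := 4) rfl (by norm_num)) hσ hz
  have d := pow_eq_one Seven.upperData 7 gens_enc Seven.prog Seven.sel Seven.codes Seven.codes_ok rfl rfl Seven.rels_ok
    (by norm_num) Seven.shape_ok
    (fun hx => segs_nodup 7 _ Seven.upperData hx Seven.stab_eq rfl Seven.segs_ok) Seven.fus_ok
    (Seven.upperData.derived_of_kOKZ 7 Seven.tab_ok Seven.k_ok Seven.k_ok') Seven.sec_ok
    (Seven.upperData.identOK_of_identP Seven.pS_eq Seven.pK_eq Seven.ident_ok) (m := 169705175777280000)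
    (mul_length_NF Seven.upperData (p := 7) rfl (d := 2) rfl (by norm_num)) hσ hz
  have h1 : orderOf z ∣ 3289 := by
    have := Nat.dvd_gcd (orderOf_dvd_of_pow_eq_one a)
      (Nat.dvd_gcd (orderOf_dvd_of_pow_eq_one b) (Nat.dvd_gcd (orderOf_dvd_of_pow_eq_one c)
        (orderOf_dvd_of_pow_eq_one d)))
    simpa using this
  have h2 : orderOf z ^ 2 ∣ 8315553613086720000 := by
    have h3 := Schur.exponent_sq_dvd_index σ.ker hσ.2.1 hσ.2.2
    rw [Subgroup.index_ker, MonoidHom.range_eq_top.mpr hσ.1, Subgroup.card_top, card_H] at h3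
    refine dvd_trans (pow_dvd_pow_of_dvd ?_ 2) h3
    rw [← Subgroup.orderOf_mk z hz]
    exact Monoid.order_dvd_exponent _
  have h4 : orderOf z ∈ Nat.divisors 3289 := Nat.mem_divisors.2 ⟨h1, by norm_num⟩
  have h5 : ∀ e ∈ Nat.divisors 3289, e ^ 2 ∣ 8315553613086720000 → e = 1 := by decide +kernel
  exact orderOf_eq_one_iff.1 (h5 _ h4 h2)

theorem triv_Co0 (Δ : Type) [Group Δ] [Finite Δ] (τ : Δ →* Co0) (hτ : Cfsg.IsStemExtension τ) :
    τ.ker = ⊥ := by
  let e : Co0 ≃* (⊤ : Subgroup Co0) := Subgroup.topEquiv.symm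
  have hk : (e.toMonoidHom.comp τ).ker = τ.ker := MonoidHom.ker_mulEquiv_comp _ e
  rw [← hk]
  exact ker_eq_bot ⟨e.surjective.comp hτ.1, hk ▸ hτ.2.1, hk ▸ hτ.2.2⟩

theorem commutator_Co0 : commutator Co0 = ⊤ := by
  refine (normal_subgroup_co0 (commutator Co0)).resolve_left fun h => ?_
  have hs : IsSimpleGroup (Co0 ⧸ Subgroup.center Co0) := isCo1_quotient.1
  have hc : ∀ x y : Co0 ⧸ Subgroup.center Co0, x * y = y * x := fun x y => by
    obtain ⟨a, rfl⟩ := QuotientGroup.mk'_surjective _ x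
    obtain ⟨b, rfl⟩ := QuotientGroup.mk'_surjective _ y
    rw [← map_mul, ← map_mul]
    refine (QuotientGroup.eq).mpr (h ?_)
    rw [commutator_def]
    have hm := Subgroup.commutator_mem_commutator (Subgroup.mem_top b⁻¹) (Subgroup.mem_top a⁻¹)
    simpa [commutatorElement_def, mul_assoc] using hm
  letI : CommGroup (Co0 ⧸ Subgroup.center Co0) := { (inferInstance : Group (Co0 ⧸ Subgroup.center Co0)) with mul_comm := hc }
  have hp := IsSimpleGroup.prime_card (α := Co0 ⧸ Subgroup.center Co0)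
  rw [isCo1_quotient.2] at hp
  norm_num at hp

theorem multiplier : Cfsg.HasCyclicSchurMultiplier Cfsg.Spor.Co1 2 := by
  have hZ := card_center
  haveI : Fact (Nat.Prime 2) := ⟨Nat.prime_two⟩
  haveI : IsCyclic (Subgroup.center Co0) := isCyclic_of_prime_card hZ
  haveI : Finite Co0 := Nat.finite_of_card_ne_zero (by rw [card_Co0]; norm_num)
  have hker : (QuotientGroup.mk' (Subgroup.center Co0)).ker = Subgroup.center Co0 := QuotientGroup.ker_mk' _
  let e : Subgroup.center Co0 ≃* Multiplicative (ZMod 2) := mulEquivOfCyclicCardEq (by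
    rw [hZ, Nat.card_congr Multiplicative.toAdd, Nat.card_zmod])
  refine ⟨⟨Co0, inferInstance, inferInstance, QuotientGroup.mk' _,
    ⟨QuotientGroup.mk'_surjective _, hker.le, ?_⟩, ⟨(MulEquiv.subgroupCongr hker).trans e⟩⟩, fun Γ _ _ σ hσ => ?_⟩
  · rw [commutator_Co0]; exact le_top
  · obtain ⟨φ, hφ, hle⟩ := exists_lift commutator_Co0 triv_Co0 (QuotientGroup.mk' (Subgroup.center Co0))
      (QuotientGroup.mk'_surjective _) σ hσ
    let ψ : Subgroup.center Co0 →* σ.ker := (φ.comp (Subgroup.center Co0).subtype).codRestrict σ.ker fun c => by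
      rw [MonoidHom.mem_ker]
      show σ (φ (c : Co0)) = 1
      rw [← MonoidHom.comp_apply σ φ, hφ]
      exact (QuotientGroup.eq_one_iff (c : Co0)).mpr c.2
    refine ⟨ψ.comp e.symm.toMonoidHom, fun z => ?_⟩
    obtain ⟨g, hg⟩ := hle z.2
    have hgc : g ∈ Subgroup.center Co0 := by
      rw [← hker, MonoidHom.mem_ker, ← hφ, MonoidHom.comp_apply, hg]
      exact z.2
    exact ⟨e ⟨g, hgc⟩, Subtype.ext (by simp [ψ, hg])⟩

end CfsgLib.Co1Mult
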